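import Groth.Agent.Lib.Serre.Regular
import Mathlib.RingTheory.Flat.Equalizer
import Mathlib.RingTheory.Ideal.AssociatedPrime.Finiteness

/-!
Criteria for homological dimensions: cyclic modules and the residue field.
-/

universe u

open CategoryTheory TensorProduct GrothLib.Serre

namespace GrothLib.HomDimCrit

variable {R : Type u} [CommRing R]

/-- All modules have `pd ≤ n` as soon as cyclic ones do. -/
theorem pdLE_of_forall_cyclic (n : ℕ) (h : ∀ I : Ideal R, PdLE R (R ⧸ I) n) (M : Type u)
    [AddCommGroup M] [Module R M] : PdLE R M n := by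
  refine hasProjectiveDimensionLT_of_enoughInjectives _ _ fun Y => ?_
  have := hasInjectiveDimensionLT_of_cyclic n Y fun I =>
    have := h I
    HasProjectiveDimensionLT.subsingleton (ModuleCat.of R (R ⧸ I)) (n + 1) (n + 1) le_rfl Y
  exact HasInjectiveDimensionLT.subsingleton Y (n + 1) (n + 1) le_rfl _

/-- The first `Tor` of `K` and `X` vanishes, phrased with presentations of `X`. -/
def TorZero (K X : Type u) [AddCommGroup K] [Module R K] [AddCommGroup X] [Module R X] : Prop :=
  ∀ (F : Type u) [AddCommGroup F] [Module R F] [Module.Projective R F] (f : F →ₗ[R] X),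
    Function.Surjective f → Function.Injective ((LinearMap.ker f).subtype.lTensor K)

/-- The two ways of computing the first `Tor` agree. -/
theorem lTensor_injective_swap {A B C U V W : Type u} [AddCommGroup A] [Module R A] [AddCommGroup B]
    [Module R B] [AddCommGroup C] [Module R C] [AddCommGroup U] [Module R U] [AddCommGroup V] [Module R V]
    [AddCommGroup W] [Module R W] [Module.Flat R V] {a : A →ₗ[R] B} {b : B →ₗ[R] C} {c : U →ₗ[R] V}
    {d : V →ₗ[R] W} (ha : Function.Injective a) (hab : Function.Exact a b) (hb : Function.Surjective b)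
    (hcd : Function.Exact c d) (hd : Function.Surjective d) (h : Function.Injective (c.lTensor C)) :
    Function.Injective (a.lTensor W) :=
  lTensor_injective_of_exact_of_exact_of_rTensor_injective hcd hd hab hb
    ((LinearMap.lTensor_inj_iff_rTensor_inj (M := C) c).mp h)
    (Module.Flat.lTensor_preserves_injective_linearMap a ha)

theorem ker_lTensor_injective_swap {B C V W : Type u} [AddCommGroup B] [Module R B] [AddCommGroup C]
    [Module R C] [AddCommGroup V] [Module R V] [AddCommGroup W] [Module R W] [Module.Flat R V]
    (b : B →ₗ[R] C) (hb : Function.Surjective b) (d : V →ₗ[R] W) (hd : Function.Surjective d)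
    (h : Function.Injective ((LinearMap.ker d).subtype.lTensor C)) :
    Function.Injective ((LinearMap.ker b).subtype.lTensor W) :=
  lTensor_injective_swap (A := LinearMap.ker b) (B := B) (C := C) (U := LinearMap.ker d) (V := V) (W := W)
    (a := (LinearMap.ker b).subtype) (b := b) (c := (LinearMap.ker d).subtype) (d := d)
    Subtype.val_injective (LinearMap.exact_subtype_ker_map b) hb (LinearMap.exact_subtype_ker_map d) hd h

theorem exists_cover (X : Type u) [AddCommGroup X] [Module R X] :
    ∃ (F : Type u) (_ : AddCommGroup F) (_ : Module R F) (_ : Module.Projective R F) (q : F →ₗ[R] X),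
      Function.Surjective q :=
  ⟨X →₀ R, inferInstance, inferInstance, inferInstance, Finsupp.linearCombination R id,
    Finsupp.linearCombination_surjective _ Function.surjective_id⟩

theorem torZero_of_one {K X F : Type u} [AddCommGroup K] [Module R K] [AddCommGroup X] [Module R X]
    [AddCommGroup F] [Module R F] [Module.Projective R F] (f : F →ₗ[R] X) (hf : Function.Surjective f)
    (h : Function.Injective ((LinearMap.ker f).subtype.lTensor K)) : TorZero (R := R) K X := by
  intro F' _ _ _ f' hf'
  obtain ⟨G, _, _, _, g, hg⟩ := exists_cover (R := R) K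
  exact ker_lTensor_injective_swap f' hf' g hg (ker_lTensor_injective_swap g hg f hf h)

theorem exists_syzygy_torZero [IsNoetherianRing R] : ∀ (n : ℕ) (X : Type u) [AddCommGroup X] [Module R X],
    PdLE R X n → ∀ (M : Type u) [AddCommGroup M] [Module R M] [Module.Finite R M],
      ∃ (K : Type u) (_ : AddCommGroup K) (_ : Module R K) (_ : Module.Finite R K),
        (∀ j, PdLE R K j → PdLE R M (j + n)) ∧ TorZero (R := R) K X := by
  intro n
  induction n with
  | zero =>
    intro X _ _ hX M _ _ _
    haveI : Module.Projective R X := pdLE_zero_iff.mp hX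
    exact ⟨M, inferInstance, inferInstance, inferInstance, fun j hj => hj,
      fun F _ _ _ f hf => LinearMap.lTensor_injective_of_exact_of_flat f hf _
        Subtype.val_injective (LinearMap.exact_subtype_ker_map f) M⟩
  | succ n ih =>
    intro X _ _ hX M _ _ _
    obtain ⟨P, _, _, _, p, hp⟩ := exists_cover (R := R) X
    obtain ⟨K', _, _, _, hpd, hT⟩ := ih (LinearMap.ker p) ((pdLE_succ_iff p hp n).mp hX) M
    obtain ⟨k, g, hg⟩ := Module.Finite.exists_fin' R K'
    refine ⟨LinearMap.ker g, inferInstance, inferInstance, inferInstance, fun j hj => ?_,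
      torZero_of_one p hp ?_⟩
    · rw [← add_assoc, add_right_comm]
      exact hpd (j + 1) ((pdLE_succ_iff g hg j).mpr hj)
    -- shift the vanishing from `K'` to its syzygy
    obtain ⟨Q, _, _, _, q, hq⟩ := exists_cover (R := R) (LinearMap.ker p)
    have h1 : Function.Injective ((LinearMap.ker g).subtype.rTensor (LinearMap.ker p)) :=
      (LinearMap.lTensor_inj_iff_rTensor_inj (M := LinearMap.ker p) (LinearMap.ker g).subtype).mp
        (ker_lTensor_injective_swap g hg q hq (hT Q q hq))
    have h2 := (Module.Flat.lTensor_preserves_injective_linearMap (M := Fin k → R)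
      (LinearMap.ker p).subtype Subtype.val_injective).comp h1
    rw [← LinearMap.coe_comp, LinearMap.lTensor_comp_rTensor, ← LinearMap.rTensor_comp_lTensor,
      LinearMap.coe_comp] at h2
    exact h2.of_comp

/-- Over a noetherian local ring, `pd ≤ n` for finite modules if `pd` of the residue field is `≤ n`. -/
theorem pdLE_of_residueField [IsLocalRing R] [IsNoetherianRing R] (n : ℕ)
    (h : PdLE R (R ⧸ IsLocalRing.maximalIdeal R) n) (M : Type u) [AddCommGroup M] [Module R M]
    [Module.Finite R M] : PdLE R M n := by
  obtain ⟨K, _, _, _, hpd, hT⟩ := exists_syzygy_torZero n _ h M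
  haveI : Module.FinitePresentation R K := Module.finitePresentation_of_finite R K
  have h1 : Function.Injective ((IsLocalRing.maximalIdeal R).subtype.lTensor K) := by
    have := hT R (IsLocalRing.maximalIdeal R).mkQ (Submodule.mkQ_surjective _)
    rwa [Submodule.ker_mkQ] at this
  haveI : Module.Free R K := Module.free_of_maximalIdeal_rTensor_injective
    ((LinearMap.lTensor_inj_iff_rTensor_inj (M := K) _).mp h1)
  simpa using hpd 0 (pdLE_zero_iff.mpr inferInstance)

/-- For finite modules over noetherian rings, `pd ≤ n` is detected on `Ext` into cyclic modules. -/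
theorem pdLE_of_ext_cyclic [IsNoetherianRing R] : ∀ (n : ℕ) (M : Type u) [AddCommGroup M] [Module R M]
    [Module.Finite R M],
      (∀ I : Ideal R, Subsingleton (Abelian.Ext (ModuleCat.of R M) (ModuleCat.of R (R ⧸ I)) (n + 1))) →
        PdLE R M n := by
  intro n
  induction n with
  | zero =>
    intro M _ _ _ h
    rw [pdLE_zero_iff]
    have key : ∀ (N : Type u) [AddCommGroup N] [Module R N] [Module.Finite R N],
        Subsingleton (Abelian.Ext (ModuleCat.of R M) (ModuleCat.of R N) 1) := by
      intro N _ _ hN
      induction hN using IsNoetherianRing.induction_on_isQuotientEquivQuotientPrime R with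
      | subsingleton N =>
        refine subsingleton_of_forall_eq 0 fun x => ?_
        rw [← x.comp_mk₀_id, show 𝟙 (ModuleCat.of R N) = 0 from
          ModuleCat.hom_ext (LinearMap.ext fun _ => Subsingleton.elim _ _), Abelian.Ext.mk₀_zero,
          Abelian.Ext.comp_zero]
      | quotient N p e =>
        have := h p.1
        refine subsingleton_of_forall_eq 0 fun x => ?_
        rw [← x.comp_mk₀_id, ← e.toModuleIso.hom_inv_id, ← Abelian.Ext.mk₀_comp_mk₀,
          ← Abelian.Ext.comp_assoc_of_second_deg_zero,
          @Subsingleton.elim _ this (x.comp _ _) 0, Abelian.Ext.zero_comp]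
      | exact N₁ N₂ N₃ a b ha hb hab h₁ h₃ =>
        let S : ShortComplex (ModuleCat.{u} R) := ShortComplex.mk (ModuleCat.ofHom a) (ModuleCat.ofHom b)
          (ModuleCat.hom_ext hab.linearMap_comp_eq_zero)
        have hS : S.ShortExact :=
          { exact := (ShortComplex.moduleCat_exact_iff _).2 fun v hv => (hab v).1 hv
            mono_f := (ModuleCat.mono_iff_injective _).2 ha
            epi_g := (ModuleCat.epi_iff_surjective _).2 hb }
        refine subsingleton_of_forall_eq 0 fun x => ?_
        obtain ⟨y, rfl⟩ := Abelian.Ext.covariant_sequence_exact₂ (ModuleCat.of R M) hS x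
          (@Subsingleton.elim _ h₃ _ _)
        rw [@Subsingleton.elim _ h₁ y 0, Abelian.Ext.zero_comp]
    obtain ⟨k, f, hf⟩ := Module.Finite.exists_fin' R M
    let S : ShortComplex (ModuleCat.{u} R) :=
      ShortComplex.mk (ModuleCat.ofHom (LinearMap.ker f).subtype) (ModuleCat.ofHom f)
        (ModuleCat.hom_ext (LinearMap.ext fun z => LinearMap.mem_ker.1 z.2))
    have hS : S.ShortExact :=
      { exact := (ShortComplex.moduleCat_exact_iff _).2 fun v hv => ⟨⟨v, LinearMap.mem_ker.2 hv⟩, rfl⟩
        mono_f := (ModuleCat.mono_iff_injective _).2 Subtype.val_injective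
        epi_g := (ModuleCat.epi_iff_surjective _).2 hf }
    obtain ⟨s, hs⟩ := Abelian.Ext.covariant_sequence_exact₃ (ModuleCat.of R M) hS
      (Abelian.Ext.mk₀ (𝟙 _)) (n₁ := 1) rfl (@Subsingleton.elim _ (key _) _ _)
    obtain ⟨σ, rfl⟩ := (Abelian.Ext.mk₀_bijective _ _).2 s
    rw [Abelian.Ext.mk₀_comp_mk₀, (Abelian.Ext.mk₀_bijective _ _).1.eq_iff] at hs
    exact Module.Projective.of_split σ.hom f (congrArg ModuleCat.Hom.hom hs)
  | succ n ih =>
    intro M _ _ _ h
    obtain ⟨k, f, hf⟩ := Module.Finite.exists_fin' R M
    rw [pdLE_succ_iff f hf n]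
    let S : ShortComplex (ModuleCat.{u} R) :=
      ShortComplex.mk (ModuleCat.ofHom (LinearMap.ker f).subtype) (ModuleCat.ofHom f)
        (ModuleCat.hom_ext (LinearMap.ext fun z => LinearMap.mem_ker.1 z.2))
    have hS : S.ShortExact :=
      { exact := (ShortComplex.moduleCat_exact_iff _).2 fun v hv => ⟨⟨v, LinearMap.mem_ker.2 hv⟩, rfl⟩
        mono_f := (ModuleCat.mono_iff_injective _).2 Subtype.val_injective
        epi_g := (ModuleCat.epi_iff_surjective _).2 hf }
    refine ih (LinearMap.ker f) fun I => subsingleton_of_forall_eq 0 fun x => ?_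
    obtain ⟨y, rfl⟩ := Abelian.Ext.contravariant_sequence_exact₁ hS (ModuleCat.of R (R ⧸ I)) x
      (n₁ := n + 1 + 1) (add_comm _ _) (@Subsingleton.elim _ (h I) _ _)
    have hPr : Projective S.X₂ := (IsProjective.iff_projective (R := R) (Fin k → R)).1 inferInstance
    rw [Abelian.Ext.eq_zero_of_projective y, Abelian.Ext.comp_zero]

end GrothLib.HomDimCrit
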